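import Groth.Agent.RG11.LocalNhd
import Groth.Agent.RG11.FPBC

/-!
# The flat locus of a finite module is open in every fibre

For a finite type algebra and a finite module, with no finiteness of presentation and no
hypothesis on the base: flatness at a point spreads to a neighbourhood in the fibre.
-/

universe u

set_option linter.style.haveILetI false
set_option maxHeartbeats 1000000

namespace Groth.Agent.FibFlat14

open TensorProduct Groth.Agent.RG11

theorem exists_fibre_flat_nhd {R S : Type u} [CommRing R] [CommRing S] [Algebra R S] [Algebra.FiniteType R S]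
    (N : Type u) [AddCommGroup N] [Module S N] [Module R N] [IsScalarTower R S N] [Module.Finite S N]
    (p : Ideal R) [p.IsPrime] (q : Ideal S) [q.IsPrime] [q.LiesOver p] (hflat : FlatCA.FlatAt R q N) :
    ∃ t ∉ q, ∀ (q' : Ideal S) [q'.IsPrime], q'.comap (algebraMap R S) = p → t ∉ q' → FlatCA.FlatAt R q' N := by
  obtain ⟨R₁, _, _, p₁, _, hn₁, H⟩ := exists_local_nhd N p q hflat
  have hp₁ : TrivExt p p₁ := TrivExt.of_isEtaleNhd hn₁
  haveI := hn₁.1
  let A₁ := Localization.AtPrime p₁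
  have hA₁ : TrivExt p (IsLocalRing.maximalIdeal A₁) := hp₁.trans (trivExt_atPrime p₁)
  let S₁ := A₁ ⊗[R] S
  letI : Algebra S S₁ := Algebra.TensorProduct.rightAlgebra
  haveI : IsScalarTower R S S₁ := IsScalarTower.of_algebraMap_eq fun r =>
    ((Algebra.TensorProduct.includeRight : S →ₐ[R] S₁).commutes r).symm
  haveI : Algebra.IsPushout R S A₁ S₁ := Algebra.IsPushout.symm inferInstance
  haveI : Module.Flat R₁ A₁ := IsLocalization.flat A₁ p₁.primeCompl
  haveI : Module.Flat R A₁ := Module.Flat.trans R R₁ A₁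
  haveI : Module.Flat S S₁ := Module.Flat.of_linearEquiv (Algebra.TensorProduct.commRight R S A₁).symm.toLinearEquiv
  obtain ⟨N₁, _, _, _, _, _, _, f₁, hf₁⟩ : ∃ (N₁ : Type u) (_ : AddCommGroup N₁) (_ : Module S₁ N₁) (_ : Module S N₁)
      (_ : IsScalarTower S S₁ N₁) (_ : Module A₁ N₁) (_ : IsScalarTower A₁ S₁ N₁) (f : N →ₗ[S] N₁), IsBaseChange S₁ f :=
    ⟨S₁ ⊗[S] N, inferInstance, inferInstance, inferInstance, inferInstance, inferInstance, inferInstance,
      TensorProduct.mk S S₁ N 1, TensorProduct.isBaseChange S N S₁⟩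
  letI : Module R N₁ := Module.compHom N₁ (algebraMap R S₁)
  haveI : IsScalarTower R S₁ N₁ := ⟨fun r s m => by
    show (r • s) • m = algebraMap R S₁ r • s • m
    rw [← algebraMap_smul S₁ r s, smul_eq_mul, mul_smul]⟩
  haveI : IsScalarTower R A₁ N₁ := IsScalarTower.of_algebraMap_smul fun r m => by
    rw [← algebraMap_smul S₁ (algebraMap R A₁ r) m, ← IsScalarTower.algebraMap_apply]
    rfl
  obtain ⟨g₁, hg₁, hfp₁, hfl₁⟩ := H S₁ N₁ f₁ hf₁
  obtain ⟨Q₁, hQ₁, hQ₁A, hQ₁q⟩ := exists_prime_over (T := S) hA₁ q (Ideal.LiesOver.over (P := q) (p := p)).symm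
  haveI := hQ₁
  obtain ⟨a, ha, t, hat⟩ := exists_smul_sub_mem hA₁ g₁
  have hmQ : ∀ Q : Ideal S₁, Q.comap (algebraMap A₁ S₁) = IsLocalRing.maximalIdeal A₁ →
      algebraMap R S₁ a * g₁ - (1 : A₁) ⊗ₜ[R] t ∈ Q := fun Q hQ => Ideal.map_le_iff_le_comap.2 hQ.ge hat
  have ht : t ∉ q := fun htq => by
    have h1 := hmQ Q₁ hQ₁A
    have h2 : (1 : A₁) ⊗ₜ[R] t ∈ Q₁ := (hQ₁q.ge htq :)
    have h3 : algebraMap R S₁ a * g₁ ∈ Q₁ := by simpa using add_mem h1 h2
    rcases hQ₁.mem_or_mem h3 with h4 | h4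
    · refine ha (hA₁.comap_eq.le ?_)
      rw [Ideal.mem_comap, ← hQ₁A, Ideal.mem_comap, ← IsScalarTower.algebraMap_apply]
      exact h4
    · exact hg₁ Q₁ ⟨hQ₁q.symm⟩ ⟨hQ₁A.symm⟩ h4
  refine ⟨t, ht, fun q' _ hq' htq' => ?_⟩
  obtain ⟨Q, hQ, hQA, hQq⟩ := exists_prime_over (T := S) hA₁ q' hq'
  haveI := hQ
  have hg : g₁ ∉ Q := fun hgQ => htq' <| by
    have h1 := hmQ Q hQA
    have h2 : algebraMap R S₁ a * g₁ ∈ Q := Ideal.mul_mem_left _ _ hgQ
    have h3 : (1 : A₁) ⊗ₜ[R] t ∈ Q := by simpa using sub_mem h2 h1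
    rw [← hQq]
    exact h3
  have h1 : FlatCA.FlatAt A₁ Q N₁ := (flat_away_iff_forall (N := N₁) g₁).1 hfl₁ Q hg
  have h2 : FlatCA.FlatAt R Q N₁ := by
    haveI : Module.Flat A₁ (LocalizedModule Q.primeCompl N₁) := h1
    exact Module.Flat.trans R A₁ (LocalizedModule Q.primeCompl N₁)
  haveI : Q.LiesOver q' := ⟨hQq.symm⟩
  exact (FlatFibres.flatAt_iff_of_isBaseChange f₁ hf₁ q' Q).2 h2

end Groth.Agent.FibFlat14
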