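import Groth.Agent.FibFlat14.Ring
import Groth.Agent.GrFlat5.FlatAtArtin
import Groth.Agent.QCoh.FT

/-!
# The flat locus of a finite type module is open in every fibre of a morphism locally of finite type
-/

universe u

open CategoryTheory AlgebraicGeometry

namespace Groth.Agent.FibFlat14

set_option linter.style.haveILetI false
set_option backward.isDefEq.respectTransparency false
set_option backward.isDefEq.respectTransparency.types false
set_option maxHeartbeats 1000000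

theorem exists_open_fibre_flat {X S : Scheme.{u}} (f : X ⟶ S) [LocallyOfFiniteType f] (F : X.Modules) [Coh.IsQCoh F]
    (hF : CohB1.IsFT F) (x : X) (hx : FlatMod.IsFlatOverAt f F x) :
    ∃ W : X.Opens, x ∈ W ∧ ∀ y ∈ W, f y = f x → FlatMod.IsFlatOverAt f F y := by
  obtain ⟨V, hV, hxV, -⟩ := exists_isAffineOpen_mem_and_subset (X := S) (x := f x) (U := ⊤) trivial
  obtain ⟨U, hU, hxU, hle⟩ := exists_isAffineOpen_mem_and_subset (X := X) (x := x) (U := f ⁻¹ᵁ V) hxV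
  let e : CommRingCat.of Γ(S, V) ≅ Γ(S, V) := Iso.refl _
  letI : Algebra Γ(S, V) Γ(X, U) := (e.hom ≫ f.appLE V U hle).hom.toAlgebra
  letI : Module Γ(S, V) Γ(F, U) := Module.compHom _ (algebraMap Γ(S, V) Γ(X, U))
  haveI : IsScalarTower Γ(S, V) Γ(X, U) Γ(F, U) := .of_algebraMap_smul fun _ _ => rfl
  haveI : Algebra.FiniteType Γ(S, V) Γ(X, U) := f.finiteType_appLE hV hU hle
  haveI : Module.Finite Γ(X, U) Γ(F, U) := QCoh.finite_of_isFT ‹_› hF hU
  have key : ∀ (y : X) (hy : y ∈ U), FlatMod.IsFlatOverAt f F y ↔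
      FlatCA.FlatAt Γ(S, V) (hU.primeIdealOf ⟨y, hy⟩).asIdeal Γ(F, U) := fun y hy =>
    GrFlat5.flatAt_iff_flat_localized f ‹_› hU hV hle e rfl _ hy rfl (LinearEquiv.refl _ _)
  have hcom : ∀ (y : X) (hy : y ∈ U), (hU.primeIdealOf ⟨y, hy⟩).asIdeal.comap (algebraMap Γ(S, V) Γ(X, U)) =
      (hV.primeIdealOf ⟨f y, hle hy⟩).asIdeal := fun y hy => by
    rw [RingHom.algebraMap_toAlgebra]
    simp only [e, Iso.refl_hom, Category.id_comp]
    exact congr($(IsAffineOpen.comap_primeIdealOf_appLE V hV U hU hle hy).1)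
  let p := (hV.primeIdealOf ⟨f x, hle hxU⟩).asIdeal
  haveI : (hU.primeIdealOf ⟨x, hxU⟩).asIdeal.LiesOver p := ⟨(hcom x hxU).symm⟩
  obtain ⟨t, ht, H⟩ := exists_fibre_flat_nhd Γ(F, U) p (hU.primeIdealOf ⟨x, hxU⟩).asIdeal ((key x hxU).1 hx)
  have hmem : ∀ (y : X) (hy : y ∈ U), y ∈ X.basicOpen t ↔ t ∉ (hU.primeIdealOf ⟨y, hy⟩).asIdeal := fun y hy => by
    have h := hU.fromSpec_primeIdealOf ⟨y, hy⟩
    constructor
    · intro hm hmem'
      have : hU.primeIdealOf ⟨y, hy⟩ ∈ hU.fromSpec ⁻¹ᵁ X.basicOpen t := by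
        show hU.fromSpec (hU.primeIdealOf ⟨y, hy⟩) ∈ X.basicOpen t
        rwa [h]
      rw [hU.fromSpec_preimage_basicOpen] at this
      exact this hmem'
    · intro hm
      have : hU.primeIdealOf ⟨y, hy⟩ ∈ hU.fromSpec ⁻¹ᵁ X.basicOpen t := by
        rw [hU.fromSpec_preimage_basicOpen]; exact hm
      have h2 : hU.fromSpec (hU.primeIdealOf ⟨y, hy⟩) ∈ X.basicOpen t := this
      rwa [h] at h2
  refine ⟨X.basicOpen t, (hmem x hxU).2 ht, fun y hy hfy => ?_⟩
  have hyU : y ∈ U := X.basicOpen_le t hy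
  refine (key y hyU).2 (H _ ?_ ((hmem y hyU).1 hy))
  rw [hcom y hyU]
  simp only [hfy]
  rfl

end Groth.Agent.FibFlat14
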